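import Groth.Prelude.Def_UnitsSh
import Groth.Prelude.Def_Omega3
import Groth.Agent.Omega57.Diag
import Groth.Agent.Fib44.CosimplicialSheaf
import Mathlib.CategoryTheory.Sites.EpiMono

/-!
The units sequence of a thickening.
-/

universe u

open CategoryTheory CategoryTheory.Limits AlgebraicGeometry Opposite TopologicalSpace

set_option backward.isDefEq.respectTransparency.types false

namespace Groth.Agent.Units47

variable {X X' : Scheme.{u}} (i : X ⟶ X') [IsClosedImmersion i]

/-- A closed immersion whose ideal consists of nilpotents induces an epimorphism on units. -/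
theorem epi_comap (hnil : ∀ (U : X'.affineOpens) (a : Γ(X', U.1)), i.app U.1 a = 0 → IsNilpotent a) :
    Epi (UnitsSh.comap i) := by
  suffices h : Sheaf.IsLocallySurjective (UnitsSh.comap i) from (Sheaf.isLocallySurjective_iff_epi' _ _).1 h
  refine ⟨fun {U} s => ?_⟩
  intro x hx
  obtain ⟨W, hW, hxW, hWU⟩ := exists_isAffineOpen_mem_and_subset hx
  refine ⟨W, homOfLE hWU, ?_, hxW⟩
  let v : Γ(X, i ⁻¹ᵁ W)ˣ := Units.map (X.presheaf.map
    (homOfLE ((Opens.map i.base).monotone hWU)).op).hom.toMonoidHom (UnitsSh.unitOfSect s)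
  obtain ⟨a, ha⟩ := i.app_surjective W hW v.val
  obtain ⟨b, hb⟩ := i.app_surjective W hW v.inv
  have hn : IsNilpotent (a * b - 1) := hnil ⟨W, hW⟩ _ (by rw [map_sub, map_mul, ha, hb, v.val_inv, map_one, sub_self])
  have hu : IsUnit (a * b) := by simpa using hn.isUnit_add_one
  refine ⟨UnitsSh.sectOfUnit (O := X'.presheaf) (U := op W) (isUnit_of_mul_isUnit_left hu).unit, ?_⟩
  apply Additive.toMul.injective
  apply Units.ext
  exact ha

omit [IsClosedImmersion i] in
/-- Square-zero may be checked on affine opens. -/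
theorem mul_eq_zero_of_affine (h : ∀ (U : X'.affineOpens) (a b : Γ(X', U.1)), i.app U.1 a = 0 →
      i.app U.1 b = 0 → a * b = 0)
    (U : X'.Opens) (a b : Γ(X', U)) (ha : i.app U a = 0) (hb : i.app U b = 0) : a * b = 0 := by
  have hcov : ∀ z : U, ∃ W : X'.affineOpens, z.1 ∈ W.1 ∧ W.1 ≤ U := fun z => by
    obtain ⟨W, hW, hzW, hWU⟩ := exists_isAffineOpen_mem_and_subset z.2
    exact ⟨⟨W, hW⟩, hzW, hWU⟩
  choose W hzW hWU using hcov
  refine TopCat.Sheaf.eq_of_locally_eq' (F := X'.sheaf) (fun z => (W z).1) U
    (fun z => homOfLE (hWU z)) (fun z hz => Opens.mem_iSup.mpr ⟨⟨z, hz⟩, hzW _⟩) _ _ fun z => ?_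
  change (X'.presheaf.map (homOfLE (hWU z)).op).hom (a * b) = (X'.presheaf.map (homOfLE (hWU z)).op).hom 0
  rw [map_mul, map_zero]
  have key : ∀ c : Γ(X', U), i.app U c = 0 →
      i.app (W z).1 ((X'.presheaf.map (homOfLE (hWU z)).op).hom c) = 0 := fun c hc => by
    refine (ConcreteCategory.congr_hom (i.naturality (homOfLE (hWU z)).op) c).trans ?_
    refine (congrArg (fun y => (X.presheaf.map ((Opens.map i.base).map (homOfLE (hWU z))).op).hom y) hc).trans ?_
    exact map_zero _
  exact h (W z) _ _ (key a ha) (key b hb)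

/-- The units `1 + a`. -/
def oneAdd {R : Type u} [CommRing R] (a : R) (ha : a * a = 0) : Rˣ where
  val := 1 + a
  inv := 1 - a
  val_inv := by ring_nf; rw [pow_two, ha]; ring
  inv_val := by ring_nf; rw [pow_two, ha]; ring

/-- The units sequence of a square-zero quasi-coherent ideal. -/
theorem exists_shortExact (J : X'.IdealSheafData) (hJ : J * J = ⊥) :
    ∃ φ : Coh.toAb (ClSub.idealMod J) ⟶ UnitsSh.unitsAb X',
      (∀ (U : X'.Opens) (f : (ClSub.idealMod J).val.obj (op U)),
        (UnitsSh.unitOfSect (φ.hom.app (op U) f)).val =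
          1 + (show X'.sheaf.obj.obj (op U) from (ClSub.idealModι J).val.app (op U) f)) ∧
      ∃ w : φ ≫ UnitsSh.comap J.subschemeι = 0,
        (ShortComplex.mk φ (UnitsSh.comap J.subschemeι) w).ShortExact := by
  let i := J.subschemeι
  have haff : ∀ (U : X'.affineOpens) (a b : Γ(X', U.1)), i.app U.1 a = 0 → i.app U.1 b = 0 → a * b = 0 := by
    intro U a b ha hb
    have hk : ∀ c : Γ(X', U.1), i.app U.1 c = 0 → c ∈ J.ideal U := fun c hc => by
      rw [← J.ker_subschemeι_app U]; exact hc
    have h := Ideal.mul_mem_mul (hk a ha) (hk b hb)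
    have e : J.ideal U * J.ideal U = ⊥ := by
      have := congrArg (fun I : X'.IdealSheafData => I.ideal U) hJ
      simpa using this
    rw [e] at h
    exact h
  have hsq := mul_eq_zero_of_affine i haff
  let s : ∀ (U : X'.Opens), Γ(ClSub.idealMod J, U) → Γ(X', U) := fun U f => OmegaSh.idealSect J U f
  have hker : ∀ (U : X'.Opens) (f : Γ(ClSub.idealMod J, U)), i.app U (s U f) = 0 := fun U f =>
    Omega57.subschemeι_idealSect J U f
  let φ : Coh.toAb (ClSub.idealMod J) ⟶ UnitsSh.unitsAb X' :=
    ⟨{ app := fun U => AddCommGrpCat.ofHom (AddMonoidHom.mk'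
          (fun f => UnitsSh.sectOfUnit (O := X'.presheaf) (U := U)
            (oneAdd (s U.unop f) (hsq _ _ _ (hker U.unop f) (hker U.unop f))))
          (fun f g => by
            apply Additive.toMul.injective
            apply Units.ext
            change 1 + s U.unop (f + g) = (1 + s U.unop f) * (1 + s U.unop g)
            have hadd : s U.unop (f + g) = s U.unop f + s U.unop g := map_add (OmegaSh.idealSect J U.unop) f g
            rw [hadd]
            linear_combination -(hsq _ _ _ (hker U.unop f) (hker U.unop g))))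
       naturality := fun U V g => by
        ext f
        apply Additive.toMul.injective
        apply Units.ext
        change 1 + s V.unop ((ClSub.idealMod J).presheaf.map g f) = (X'.presheaf.map g).hom (1 + s U.unop f)
        rw [map_add, map_one]
        exact congrArg (1 + ·) (congr($((ClSub.idealModι J).mapPresheaf.naturality g).hom f)) }⟩
  refine ⟨φ, fun U f => rfl, ?_⟩
  have hone : ∀ (U : X'.Opens) (f : Γ(ClSub.idealMod J, U)), i.app U (1 + s U f) = 1 := fun U f => by
    rw [map_add, map_one, hker, add_zero]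
  have w : φ ≫ UnitsSh.comap i = 0 := by
    apply Sheaf.hom_ext
    ext U f
    apply Additive.toMul.injective
    apply Units.ext
    exact hone U.unop f
  refine ⟨w, ?_⟩
  have hinj : ∀ U, Function.Injective (φ.hom.app U) := fun U f g h => by
    refine Omega57.idealSect_injective J U.unop ?_
    have h' : 1 + s U.unop f = 1 + s U.unop g := congrArg (fun x => (UnitsSh.unitOfSect (O := X'.presheaf) x).val) h
    exact add_left_cancel h'
  have : Mono φ := by
    have : ∀ U, Mono (φ.hom.app U) := fun U => (AddCommGrpCat.mono_iff_injective _).2 (hinj U)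
    have : Mono φ.hom := NatTrans.mono_of_mono_app _
    exact (sheafToPresheaf _ _).mono_of_mono_map this
  have : Epi (UnitsSh.comap i) := epi_comap i fun U a ha => ⟨2, by rw [pow_two]; exact haff U a a ha ha⟩
  refine { exact := Fib44.CosimpSheaf.exact_of_sections _ fun V => ?_, mono_f := ‹_›, epi_g := ‹_› }
  rw [ShortComplex.ab_exact_iff]
  intro (u : (UnitsSh.pre X'.presheaf).obj V) hu
  have hu' : i.app V.unop ((UnitsSh.unitOfSect u).val) = 1 :=
    congrArg (fun x => (UnitsSh.unitOfSect (O := J.subscheme.presheaf) (U := op (i ⁻¹ᵁ V.unop)) x).val) hu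
  obtain ⟨f, hf⟩ := Omega57.exists_idealSect_eq J V.unop ((UnitsSh.unitOfSect u).val - 1)
    (by rw [map_sub, hu', map_one, sub_self])
  refine ⟨f, ?_⟩
  apply Additive.toMul.injective
  apply Units.ext
  change 1 + s V.unop f = (UnitsSh.unitOfSect u).val
  rw [show s V.unop f = _ from hf, add_sub_cancel]

end Groth.Agent.Units47
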