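import Groth.Agent.Units47.Small
import Groth.Agent.Blow97.Affine
import Mathlib.RingTheory.Nakayama
import Mathlib.RingTheory.Artinian.Module
import Mathlib.LinearAlgebra.TensorProduct.RightExactness
import Mathlib.RingTheory.Flat.Basic
import Mathlib.AlgebraicGeometry.Morphisms.Flat

/-!
The closed subschemes `X' ×_A A/I` of a scheme flat over `A`.
-/

universe u

open CategoryTheory CategoryTheory.Limits AlgebraicGeometry Opposite TopologicalSpace TensorProduct

set_option backward.isDefEq.respectTransparency.types false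

noncomputable section

namespace Groth.Agent.Units47

/-- In a flat algebra `(IB : t) = (I : t)B`. -/
theorem mul_mem_map_iff {A B : Type u} [CommRing A] [CommRing B] (f : A →+* B) (hf : f.Flat)
    (I M : Ideal A) (t : A) (h : ∀ a, a ∈ M ↔ a * t ∈ I) (b : B) :
    f t * b ∈ I.map f ↔ b ∈ M.map f := by
  algebraize [f]
  have : Module.Flat A B := hf
  constructor
  · intro hb
    let μ : A →ₗ[A] A ⧸ I := (Submodule.mkQ I).comp (LinearMap.mulRight A t)
    have hex : Function.Exact (Submodule.subtype M) μ := by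
      rw [LinearMap.exact_iff]
      ext a
      simp [μ, h]
      rw [← map_mul, Ideal.Quotient.eq_zero_iff_mem]
    have h0 : ∀ x ∈ (I • ⊤ : Submodule A B), x ⊗ₜ[A] (Submodule.mkQ I (1 : A)) = 0 := by
      intro x hx
      refine Submodule.smul_induction_on hx (fun i hi y _ => ?_) fun x y hx hy => ?_
      · rw [TensorProduct.smul_tmul, ← map_smul, smul_eq_mul, mul_one,
          show (Submodule.mkQ I) i = 0 from (Submodule.Quotient.mk_eq_zero I).2 hi, TensorProduct.tmul_zero]
      · rw [TensorProduct.add_tmul, hx, hy, add_zero]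
    have hb' : (t • b) ∈ (I • ⊤ : Submodule A B) := by
      rw [Ideal.smul_top_eq_map, Algebra.smul_def]
      exact hb
    have hker : LinearMap.lTensor B μ (b ⊗ₜ (1 : A)) = 0 := by
      refine Eq.trans ?_ (h0 _ hb')
      rw [LinearMap.lTensor_tmul, TensorProduct.smul_tmul, ← map_smul]
      simp [μ]
    obtain ⟨z, hz⟩ := ((Module.Flat.lTensor_exact B hex) _).1 hker
    have hmem : ∀ z : B ⊗[A] M, (TensorProduct.rid A B) (LinearMap.lTensor B M.subtype z) ∈ M.map f := by
      intro z
      induction z using TensorProduct.induction_on with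
      | zero => simp
      | tmul y m =>
        rw [LinearMap.lTensor_tmul, TensorProduct.rid_tmul, Algebra.smul_def]
        exact Ideal.mul_mem_right _ _ (Ideal.mem_map_of_mem f m.2)
      | add x y hx hy => rw [map_add, map_add]; exact add_mem hx hy
    have := hmem z
    rwa [hz, TensorProduct.rid_tmul, one_smul] at this
  · intro hb
    refine Submodule.span_induction ?_ (by simp) (fun x y _ _ hx hy => ?_) (fun c x _ hx => ?_) hb
    · rintro _ ⟨m, hm, rfl⟩
      rw [← map_mul, mul_comm]
      exact Ideal.mem_map_of_mem f ((h m).1 hm)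
    · rw [mul_add]; exact add_mem hx hy
    · rw [smul_eq_mul, mul_left_comm]; exact Ideal.mul_mem_left _ _ hx

variable {A : Type u} [CommRing A] {X' : Scheme.{u}} (g : X' ⟶ Spec (CommRingCat.of A))

/-- The ring map `A → Γ(X', U)`. -/
abbrev rU (U : X'.Opens) : A →+* Γ(X', U) := (Blow97.res U).comp (Blow97.gam g)

theorem flat_rU [Flat g] {U : X'.Opens} (hU : IsAffineOpen U) : (rU g U).Flat := by
  have h1 : (g.appLE ⊤ U le_top).hom.Flat :=
    HasRingHomProperty.appLE @Flat g inferInstance ⟨⊤, isAffineOpen_top _⟩ ⟨U, hU⟩ le_top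
  have e : rU g U = (g.appLE ⊤ U le_top).hom.comp (Scheme.ΓSpecIso (CommRingCat.of A)).inv.hom := rfl
  rw [e]
  exact (RingHom.Flat.of_bijective (ConcreteCategory.bijective_of_isIso _)).comp h1

theorem ker_specMap {R : Type u} [CommRing R] (φ : A →+* R) :
    (Spec.map (CommRingCat.ofHom φ)).ker = Curv2.idealSheaf A (RingHom.ker φ) := by
  refine Scheme.IdealSheafData.ext_of_isAffine ?_
  rw [Scheme.Hom.ker_apply, Curv2.idealSheaf, Scheme.IdealSheafData.ofIdealTop_ideal]
  let e := Scheme.ΓSpecIso (CommRingCat.of A)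
  ext a
  simp only [RingHom.mem_ker]
  have hn : (Scheme.ΓSpecIso (CommRingCat.of R)).hom ((Spec.map (CommRingCat.ofHom φ)).appTop a) = φ (e.hom a) :=
    congr($(Scheme.ΓSpecIso_naturality (CommRingCat.ofHom φ)).hom a)
  have hae : a = e.inv (e.hom a) := (e.hom_inv_id_apply a).symm
  constructor
  · intro ha
    have hker : e.hom a ∈ RingHom.ker φ := by
      rw [RingHom.mem_ker, ← hn]
      exact (congrArg _ ha).trans (map_zero (Scheme.ΓSpecIso (CommRingCat.of R)).hom.hom)
    rw [hae]
    rw [show (homOfLE (le_top : (⊤ : (Spec (CommRingCat.of A)).Opens) ≤ ⊤)).op = 𝟙 _ from rfl,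
      CategoryTheory.Functor.map_id, CommRingCat.hom_id, Ideal.map_id]
    exact Ideal.mem_map_of_mem e.inv.hom hker
  · intro ha
    have : a ∈ RingHom.ker (Spec.map (CommRingCat.ofHom φ)).appTop.hom := by
      refine Ideal.map_le_iff_le_comap.2 ?_ ha
      refine Ideal.map_le_iff_le_comap.2 fun x hx => ?_
      change (Spec.map (CommRingCat.ofHom φ)).appTop (e.inv x) = 0
      refine (ConcreteCategory.bijective_of_isIso (Scheme.ΓSpecIso (CommRingCat.of R)).hom).1 ?_
      refine Eq.trans ?_ (map_zero _).symm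
      refine (congr($(Scheme.ΓSpecIso_naturality (CommRingCat.ofHom φ)).hom (e.inv x))).trans ?_
      change φ (e.hom (e.inv x)) = 0
      rw [e.inv_hom_id_apply]
      exact hx
    exact this

/-- The closed subscheme cut out by a quotient of `A`. -/
abbrev iSub {R : Type u} [CommRing R] (φ : A →+* R) :
    pullback g (Spec.map (CommRingCat.ofHom φ)) ⟶ X' :=
  pullback.fst g (Spec.map (CommRingCat.ofHom φ))

variable {R : Type u} [CommRing R] {φ : A →+* R}

theorem isClosedImmersion_spec (hφ : Function.Surjective φ) :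
    IsClosedImmersion (Spec.map (CommRingCat.ofHom φ)) :=
  IsClosedImmersion.spec_of_surjective _ hφ

theorem app_iSub_eq_zero_iff (hφ : Function.Surjective φ) (U : X'.affineOpens) (b : Γ(X', U.1)) :
    (iSub g φ).app U.1 b = 0 ↔ b ∈ (RingHom.ker φ).map (rU g U.1) := by
  have := isClosedImmersion_spec hφ
  rw [← RingHom.mem_ker, ← Blow97.ideal_comap_idealSheaf, ← ker_specMap,
    ← Scheme.IdealSheafData.ker_fst_of_isClosedImmersion, Scheme.Hom.ker_apply]

/-- The map of closed subschemes of a factorisation. -/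
def hSub {S : Type u} [CommRing S] (φ : A →+* R) (χ : R →+* S) {ψ : A →+* S} (h : χ.comp φ = ψ) :
    pullback g (Spec.map (CommRingCat.ofHom ψ)) ⟶ pullback g (Spec.map (CommRingCat.ofHom φ)) :=
  pullback.lift (pullback.fst _ _) (pullback.snd _ _ ≫ Spec.map (CommRingCat.ofHom χ))
    (by subst h; rw [Category.assoc, ← Spec.map_comp, pullback.condition]; rfl)

@[simp]
theorem hSub_iSub {S : Type u} [CommRing S] (φ : A →+* R) (χ : R →+* S) {ψ : A →+* S} (h : χ.comp φ = ψ) :
    hSub g φ χ h ≫ iSub g φ = iSub g ψ :=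
  pullback.lift_fst _ _ _

/-- The data of a small step between two quotients. -/
theorem exists_step [Flat g] {S K : Type u} [CommRing S] [CommRing K] (hφ : Function.Surjective φ)
    (χ : R →+* S) {ψ : A →+* S} (hc : χ.comp φ = ψ) (hψ : Function.Surjective ψ)
    (ρ : A →+* K) (hρ : Function.Surjective ρ) (t : A)
    (hker : RingHom.ker ψ = RingHom.ker φ ⊔ Ideal.span {t})
    (hann : ∀ a, a ∈ RingHom.ker ρ ↔ a * t ∈ RingHom.ker φ) (ht : t * t ∈ RingHom.ker φ)
    (hnil : RingHom.ker ψ ≤ nilradical A) :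
    ∃ (a : pushO (iSub g ρ) ⟶ (CohTop.push (iSub g φ).base).obj (UnitsSh.unitsAb _))
      (w : a ≫ c₁₂ (iSub g φ) (hSub g φ χ hc) = 0),
      (ShortComplex.mk a (c₁₂ (iSub g φ) (hSub g φ χ hc)) w).ShortExact := by
  have := isClosedImmersion_spec hφ
  have := isClosedImmersion_spec hψ
  have := isClosedImmersion_spec hρ
  have : IsClosedImmersion (hSub g φ χ hc ≫ iSub g φ) := by rw [hSub_iSub]; infer_instance
  have key : ∀ (U : X'.affineOpens) (a : Γ(X', U.1)),
      (hSub g φ χ hc ≫ iSub g φ).app U.1 a = 0 ↔ a ∈ (RingHom.ker ψ).map (rU g U.1) := fun U a => by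
    rw [← RingHom.mem_ker, ← Scheme.Hom.ker_apply, hSub_iSub, Scheme.Hom.ker_apply, RingHom.mem_ker]
    exact app_iSub_eq_zero_iff g hψ U a
  have hr : ∀ U : X'.Opens, resT (Blow97.gam g t) U = rU g U t := fun U => rfl
  refine exists_small (iSub g φ) (hSub g φ χ hc) (iSub g ρ) (Blow97.gam g t) (fun U a => ?_) (fun U b => ?_)
    (fun U => ?_) fun U a ha => ?_
  · rw [key, hker, Ideal.map_sup, Ideal.map_span, Set.image_singleton]
    refine Iff.trans Submodule.mem_sup ⟨?_, ?_⟩
    · rintro ⟨y, hy, z, hz, rfl⟩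
      obtain ⟨b, rfl⟩ := Ideal.mem_span_singleton'.1 hz
      refine ⟨b, (app_iSub_eq_zero_iff g hφ U _).2 ?_⟩
      rwa [hr, mul_comm b, add_sub_cancel_right]
    · rintro ⟨b, hb⟩
      exact ⟨_, (app_iSub_eq_zero_iff g hφ U _).1 hb, _, Ideal.mem_span_singleton'.2 ⟨b, rfl⟩,
        by rw [hr]; ring⟩
  · rw [app_iSub_eq_zero_iff g hρ, app_iSub_eq_zero_iff g hφ, hr]
    exact (mul_mem_map_iff _ (flat_rU g U.2) _ _ t hann b).symm
  · rw [app_iSub_eq_zero_iff g hφ, hr, ← map_mul]
    exact Ideal.mem_map_of_mem _ ht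
  · have h1 : (RingHom.ker ψ).map (rU g U.1) ≤ nilradical Γ(X', U.1) :=
      Ideal.map_le_iff_le_comap.2 fun x hx => mem_nilradical.2 ((mem_nilradical.1 (hnil hx)).map _)
    exact mem_nilradical.1 (h1 ((key U a).1 ha))

omit X' g in
/-- A maximal proper subideal of an ideal of an Artinian local ring. -/
theorem exists_small_ideal [IsArtinianRing A] [IsLocalRing A] {J : Ideal A}
    (hne : J ≠ ⊥) : ∃ (I : Ideal A) (t : A), I < J ∧ J = I ⊔ Ideal.span {t} ∧
      (∀ a, a ∈ IsLocalRing.maximalIdeal A ↔ a * t ∈ I) := by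
  obtain ⟨I, hI, hmax⟩ := (IsNoetherian.wf (inferInstance : IsNoetherian A A)).has_min {I : Ideal A | I < J}
    ⟨⊥, bot_lt_iff_ne_bot.2 hne⟩
  have hI' : I < J := hI
  obtain ⟨t, htJ, htI⟩ := SetLike.exists_of_lt hI'
  have hup : ∀ L : Ideal A, I ≤ L → L ≤ J → L ≠ I → L = J := fun L h1 h2 h3 => by
    by_contra h4
    exact hmax L (lt_of_le_of_ne h2 h4) (lt_of_le_of_ne h1 (Ne.symm h3))
  refine ⟨I, t, hI', (hup _ le_sup_left (sup_le hI'.le (by simpa using htJ)) fun h => htI ?_).symm, fun a => ?_⟩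
  · exact h ▸ Ideal.mem_sup_right (Ideal.mem_span_singleton_self t)
  · constructor
    · intro ha
      by_cases h : I ⊔ IsLocalRing.maximalIdeal A • J = I
      · exact h ▸ Ideal.mem_sup_right (Submodule.smul_mem_smul ha htJ)
      · have h1 := hup _ le_sup_left (sup_le hI'.le Submodule.smul_le_right) h
        exact absurd (Submodule.le_of_le_smul_of_le_jacobson_bot (IsNoetherian.noetherian J)
          (IsLocalRing.maximalIdeal_le_jacobson ⊥) h1.ge htJ) htI
    · intro ha
      by_contra h
      obtain ⟨c, hc⟩ := (IsLocalRing.notMem_maximalIdeal.1 h).exists_left_inv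
      refine htI ?_
      have := Ideal.mul_mem_left I c ha
      rwa [← mul_assoc, hc, one_mul] at this

end Groth.Agent.Units47
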