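import Groth.Agent.Units47.Seq
import Groth.Agent.Coh69.AffinePush
import Groth.Prelude.Def_Coh

/-!
The units sequence of a small thickening: if `i₂ = h ≫ i₁` are closed subschemes whose ideals differ
by a square-zero principal ideal `(t)` with annihilator the ideal of `j`, then there is a short exact
sequence `0 → j_*O → i₁_*O^× → i₂_*O^× → 0`.
-/

universe u

open CategoryTheory CategoryTheory.Limits AlgebraicGeometry Opposite TopologicalSpace

set_option backward.isDefEq.respectTransparency.types false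

noncomputable section

namespace Groth.Agent.Units47

theorem app_eq {X : TopCat.{u}} {F G H : CohTop.Ab X} {f : F ⟶ G} {g : G ⟶ H} {k : F ⟶ H} (w : f ≫ g = k)
    (U : (Opens X)ᵒᵖ) (v : F.obj.obj U) : g.hom.app U (f.hom.app U v) = k.hom.app U v := by
  subst w; rfl

/-- Exactness of abelian sheaves may be checked on local sections. -/
theorem exact_of_local {X : TopCat.{u}} (S : ShortComplex (CohTop.Ab X))
    (h : ∀ (U : Opens X) (u : S.X₂.obj.obj (op U)), S.g.hom.app (op U) u = 0 → ∀ x ∈ U,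
      ∃ (W : Opens X) (i : W ≤ U) (_ : x ∈ W) (s : S.X₁.obj.obj (op W)),
        S.f.hom.app (op W) s = S.X₂.obj.map (homOfLE i).op u) : S.Exact := by
  rw [ShortComplex.exact_iff_epi_kernel_lift]
  refine (Sheaf.isLocallySurjective_iff_epi' _ _).1 ⟨fun {U} v => ?_⟩
  intro x hx
  have hv : S.g.hom.app (op U) ((kernel.ι S.g).hom.app (op U) v) = 0 :=
    app_eq (kernel.condition S.g) _ v
  obtain ⟨W, i, hxW, s, hs⟩ := h U _ hv x hx
  refine ⟨W, homOfLE i, ⟨s, ?_⟩, hxW⟩
  have : Mono ((sheafToPresheaf _ _).map (kernel.ι S.g)) := Functor.map_mono _ _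
  have : Mono ((kernel.ι S.g).hom.app (op W)) := (NatTrans.mono_iff_mono_app _).1 this (op W)
  refine (AddCommGrpCat.mono_iff_injective ((kernel.ι S.g).hom.app (op W))).1 this ?_
  refine Eq.trans ?_ (ConcreteCategory.congr_hom ((kernel.ι S.g).hom.naturality (homOfLE i).op) v).symm
  exact (app_eq (kernel.lift_ι S.g S.f S.zero) (op W) s).trans hs

variable {X' X₁ X₂ X₀ : Scheme.{u}} (i₁ : X₁ ⟶ X') (h : X₂ ⟶ X₁) (j : X₀ ⟶ X')

/-- The map of the pushforwards of units. -/
abbrev c₁₂ : (CohTop.push i₁.base).obj (UnitsSh.unitsAb X₁) ⟶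
    (CohTop.push (h ≫ i₁).base).obj (UnitsSh.unitsAb X₂) :=
  (CohTop.push i₁.base).map (UnitsSh.comap h)

theorem comap_comp : UnitsSh.comap (h ≫ i₁) = UnitsSh.comap i₁ ≫ c₁₂ i₁ h := by
  apply Sheaf.hom_ext
  ext U s
  rfl

/-- The additive sheaf `j_*O`. -/
abbrev pushO : Sheaf (Opens.grothendieckTopology X') AddCommGrpCat.{u} :=
  Coh.toAb ((Coh.push j).obj (Coh.structureModule X₀))

/-- The comorphism on additive sheaves. -/
def addComap : Coh.toAb (Coh.structureModule X') ⟶ pushO j :=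
  ⟨{ app := fun U => AddCommGrpCat.ofHom (AddMonoidHom.mk' (fun b : Γ(X', U.unop) => (j.app U.unop b : Γ(X₀, j ⁻¹ᵁ U.unop)))
        (fun a b => map_add (j.app U.unop).hom a b))
     naturality := fun U V g => by
      ext b
      exact ConcreteCategory.congr_hom (j.c.naturality g) b }⟩

theorem epi_addComap [IsClosedImmersion j] : Epi (addComap j) := by
  refine (Sheaf.isLocallySurjective_iff_epi' _ _).1 ⟨fun {U} s => ?_⟩
  intro x hx
  obtain ⟨W, hW, hxW, hWU⟩ := exists_isAffineOpen_mem_and_subset hx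
  obtain ⟨b, hb⟩ := j.app_surjective W hW (X₀.presheaf.map (homOfLE ((Opens.map j.base).monotone hWU)).op s)
  exact ⟨W, homOfLE hWU, ⟨b, hb⟩, hxW⟩

/-- The image of `t` on an open. -/
abbrev resT (t : Γ(X', ⊤)) (U : X'.Opens) : Γ(X', U) := X'.presheaf.map (homOfLE (le_top : U ≤ ⊤)).op t

theorem res_resT (t : Γ(X', ⊤)) {U V : X'.Opens} (e : V ⟶ U) :
    X'.presheaf.map e.op (resT t U) = resT t V := by
  change (X'.presheaf.map _ ≫ X'.presheaf.map e.op).hom t = _
  rw [← Functor.map_comp]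
  rfl

section

variable (t : Γ(X', ⊤)) (hsq : ∀ U, i₁.app U (resT t U * resT t U) = 0)

/-- `b ↦ 1 + tb`. -/
def psi : Coh.toAb (Coh.structureModule X') ⟶ (CohTop.push i₁.base).obj (UnitsSh.unitsAb X₁) :=
  ⟨{ app := fun U => AddCommGrpCat.ofHom (AddMonoidHom.mk'
        (fun b : Γ(X', U.unop) => UnitsSh.sectOfUnit (O := X₁.presheaf) (U := op (i₁ ⁻¹ᵁ U.unop))
          (oneAdd (i₁.app U.unop (resT t U.unop * b)) (by
            rw [← map_mul, mul_mul_mul_comm, map_mul, hsq, zero_mul])))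
        (fun (a b : Γ(X', U.unop)) => by
          apply Additive.toMul.injective
          apply Units.ext
          change 1 + i₁.app U.unop (resT t U.unop * (a + b)) =
            (1 + i₁.app U.unop (resT t U.unop * a)) * (1 + i₁.app U.unop (resT t U.unop * b))
          have : i₁.app U.unop (resT t U.unop * a) * i₁.app U.unop (resT t U.unop * b) = 0 := by
            rw [← map_mul, mul_mul_mul_comm, map_mul, hsq, zero_mul]
          rw [mul_add, map_add]
          linear_combination -this))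
     naturality := fun U V g => by
      ext (b : Γ(X', U.unop))
      apply Additive.toMul.injective
      apply Units.ext
      change 1 + i₁.app V.unop (resT t V.unop * X'.presheaf.map g b) =
        (X₁.presheaf.map ((Opens.map i₁.base).map g.unop).op).hom (1 + i₁.app U.unop (resT t U.unop * b))
      rw [map_add, map_one, ← res_resT t g.unop]
      refine congrArg (1 + ·) ((congrArg _ ((map_mul (X'.presheaf.map g).hom _ _).symm)).trans ?_)
      exact ConcreteCategory.congr_hom (i₁.c.naturality g) _ }⟩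

theorem psi_val (U : X'.Opens) (b : Γ(X', U)) :
    (UnitsSh.unitOfSect (O := X₁.presheaf) (U := op (i₁ ⁻¹ᵁ U)) ((psi i₁ t hsq).hom.app (op U) b)).val =
      1 + i₁.app U (resT t U * b) := rfl

end

/-- The short exact sequence of a small thickening. -/
theorem exists_small [IsClosedImmersion i₁] [IsClosedImmersion (h ≫ i₁)] [IsClosedImmersion j]
    (t : Γ(X', ⊤))
    (h₂ : ∀ (U : X'.affineOpens) (a : Γ(X', U.1)),
      (h ≫ i₁).app U.1 a = 0 ↔ ∃ b, i₁.app U.1 (a - resT t U.1 * b) = 0)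
    (h₀ : ∀ (U : X'.affineOpens) (b : Γ(X', U.1)), j.app U.1 b = 0 ↔ i₁.app U.1 (resT t U.1 * b) = 0)
    (hsq : ∀ U : X'.affineOpens, i₁.app U.1 (resT t U.1 * resT t U.1) = 0)
    (hnil : ∀ (U : X'.affineOpens) (a : Γ(X', U.1)), (h ≫ i₁).app U.1 a = 0 → IsNilpotent a) :
    ∃ (φ : pushO j ⟶ (CohTop.push i₁.base).obj (UnitsSh.unitsAb X₁)) (w : φ ≫ c₁₂ i₁ h = 0),
      (ShortComplex.mk φ (c₁₂ i₁ h) w).ShortExact := by
  -- globalise the hypotheses
  have hcov : ∀ (U : X'.Opens) (z : U), ∃ W : X'.affineOpens, z.1 ∈ W.1 ∧ W.1 ≤ U := fun U z => by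
    obtain ⟨W, hW, hzW, hWU⟩ := exists_isAffineOpen_mem_and_subset z.2
    exact ⟨⟨W, hW⟩, hzW, hWU⟩
  have hnat : ∀ {Y : Scheme.{u}} (f : Y ⟶ X') {U W : X'.Opens} (e : W ≤ U) (a : Γ(X', U)),
      f.app W (X'.presheaf.map (homOfLE e).op a) =
        Y.presheaf.map ((Opens.map f.base).map (homOfLE e)).op (f.app U a) :=
    fun f U W e a => ConcreteCategory.congr_hom (f.c.naturality (homOfLE e).op) a
  have hglob : ∀ {Y : Scheme.{u}} (f : Y ⟶ X') (U : X'.Opens) (a : Γ(X', U)),
      (∀ (W : X'.affineOpens) (e : W.1 ≤ U), f.app W.1 (X'.presheaf.map (homOfLE e).op a) = 0) →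
      f.app U a = 0 := by
    intro Y f U a hW
    choose W hzW hWU using hcov U
    refine TopCat.Sheaf.eq_of_locally_eq' (F := Y.sheaf) (fun z => f ⁻¹ᵁ (W z).1) (f ⁻¹ᵁ U)
      (fun z => (Opens.map f.base).map (homOfLE (hWU z)))
      (fun y hy => Opens.mem_iSup.mpr ⟨⟨f y, hy⟩, hzW ⟨f y, hy⟩⟩) _ _ fun z => ?_
    exact ((hnat f (hWU z) a).symm.trans (hW (W z) (hWU z))).trans (map_zero _).symm
  have hres : ∀ {U W : X'.Opens} (e : W ≤ U) (b : Γ(X', U)),
      resT t W * X'.presheaf.map (homOfLE e).op b = X'.presheaf.map (homOfLE e).op (resT t U * b) :=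
    fun e b => by rw [map_mul, res_resT]
  have hsq' : ∀ U, i₁.app U (resT t U * resT t U) = 0 := fun U => hglob i₁ U _ fun W e => by
    rw [map_mul, res_resT]; exact hsq W
  let ψ := psi i₁ t hsq'
  let a := addComap j
  have : Epi a := epi_addComap j
  have hka : kernel.ι ψ ≫ a = 0 := by
    apply Sheaf.hom_ext
    ext U v
    have hv : ψ.hom.app U ((kernel.ι ψ).hom.app U v) = 0 :=
      app_eq (kernel.condition ψ) U v
    have hv' := congrArg (fun x => (UnitsSh.unitOfSect (O := X₁.presheaf) (U := op (i₁ ⁻¹ᵁ U.unop)) x).val) hv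
    let b : Γ(X', U.unop) := (kernel.ι ψ).hom.app U v
    change 1 + i₁.app U.unop (resT t U.unop * b) = 1 at hv'
    change j.app U.unop b = 0
    refine hglob j U.unop b fun W e => (h₀ W _).2 ?_
    rw [hres e, hnat i₁ e, add_eq_left.1 hv']
    exact map_zero _
  have hka' : kernel.ι a ≫ ψ = 0 := by
    apply Sheaf.hom_ext
    ext U v
    have hv : a.hom.app U ((kernel.ι a).hom.app U v) = 0 :=
      app_eq (kernel.condition a) U v
    apply Additive.toMul.injective
    apply Units.ext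
    let b : Γ(X', U.unop) := (kernel.ι a).hom.app U v
    have hb : j.app U.unop b = 0 := hv
    change 1 + i₁.app U.unop (resT t U.unop * b) = 1
    rw [add_eq_left]
    refine hglob i₁ U.unop _ fun W e => ?_
    rw [← hres e]
    refine (h₀ W _).1 ?_
    rw [hnat j e, hb]
    exact map_zero _
  let φ := Abelian.epiDesc a ψ hka'
  have hφ : a ≫ φ = ψ := Abelian.comp_epiDesc _ _ _
  have : Mono φ := Preadditive.mono_of_cancel_zero φ fun {Z} g hg => by
    obtain ⟨A, π, hπ, x, hx⟩ := surjective_up_to_refinements_of_epi a g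
    have hxψ : x ≫ ψ = 0 := by rw [← hφ, ← reassoc_of% hx, hg, comp_zero]
    rw [← cancel_epi π, comp_zero, hx, ← kernel.lift_ι ψ x hxψ, Category.assoc, hka, comp_zero]
  have wψ : ψ ≫ c₁₂ i₁ h = 0 := by
    apply Sheaf.hom_ext
    ext U (b : Γ(X', U.unop))
    apply Additive.toMul.injective
    apply Units.ext
    change h.app (i₁ ⁻¹ᵁ U.unop) (1 + i₁.app U.unop (resT t U.unop * b)) = 1
    rw [map_add, map_one, add_eq_left]
    refine hglob (h ≫ i₁) U.unop _ fun W e => ?_
    rw [← hres e]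
    exact (h₂ W _).2 ⟨X'.presheaf.map (homOfLE e).op b, by rw [sub_self, map_zero]⟩
  have w : φ ≫ c₁₂ i₁ h = 0 := by rw [← cancel_epi a, reassoc_of% hφ, wψ, comp_zero]
  refine ⟨φ, w, ?_⟩
  have : Epi (UnitsSh.comap i₁ ≫ c₁₂ i₁ h) := by
    rw [← comap_comp]; exact epi_comap (h ≫ i₁) hnil
  have : Epi (c₁₂ i₁ h) := epi_of_epi (UnitsSh.comap i₁) _
  have hex : (ShortComplex.mk ψ (c₁₂ i₁ h) wψ).Exact := by
    refine exact_of_local _ fun U (u : (UnitsSh.pre X₁.presheaf).obj (op (i₁ ⁻¹ᵁ U))) hu x hx => ?_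
    obtain ⟨W, hW, hxW, hWU⟩ := exists_isAffineOpen_mem_and_subset hx
    have hu' : h.app (i₁ ⁻¹ᵁ U) (UnitsSh.unitOfSect u).val = 1 :=
      congrArg (fun y => (UnitsSh.unitOfSect (O := X₂.presheaf) (U := op (h ⁻¹ᵁ (i₁ ⁻¹ᵁ U))) y).val) hu
    obtain ⟨c, hc⟩ := i₁.app_surjective W hW
      (X₁.presheaf.map ((Opens.map i₁.base).map (homOfLE hWU)).op ((UnitsSh.unitOfSect u).val - 1))
    have hc' : (h ≫ i₁).app W c = 0 := by
      change h.app (i₁ ⁻¹ᵁ W) (i₁.app W c) = 0
      rw [hc]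
      refine (ConcreteCategory.congr_hom (h.c.naturality ((Opens.map i₁.base).map (homOfLE hWU)).op) _).trans ?_
      refine (congrArg _ (show h.app (i₁ ⁻¹ᵁ U) ((UnitsSh.unitOfSect u).val - 1) = 0 by
        rw [map_sub, hu', map_one, sub_self])).trans ?_
      exact map_zero (X₂.presheaf.map ((Opens.map h.base).map ((Opens.map i₁.base).map (homOfLE hWU))).op).hom
    obtain ⟨b, hb⟩ := (h₂ ⟨W, hW⟩ c).1 hc'
    refine ⟨W, hWU, hxW, b, ?_⟩
    apply Additive.toMul.injective
    apply Units.ext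
    change 1 + i₁.app W (resT t W * b) = (X₁.presheaf.map _).hom (UnitsSh.unitOfSect u).val
    rw [map_sub, sub_eq_zero] at hb
    rw [← hb, hc, map_sub, map_one]
    exact add_sub_cancel _ _
  let μ : ShortComplex.mk ψ (c₁₂ i₁ h) wψ ⟶ ShortComplex.mk φ (c₁₂ i₁ h) w :=
    { τ₁ := a, τ₂ := 𝟙 _, τ₃ := 𝟙 _, comm₁₂ := by simp [hφ] }
  exact { exact := (ShortComplex.exact_iff_of_epi_of_isIso_of_mono μ).1 hex, mono_f := ‹_›, epi_g := ‹_› }

end Groth.Agent.Units47
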