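import Groth.Agent.Units47.Flat
import Groth.Agent.Crv77.HH
import Groth.Agent.QC70.Coherent

/-!
Cohomology of units of infinitesimal thickenings.
-/

universe u

open CategoryTheory CategoryTheory.Limits AlgebraicGeometry Opposite TopologicalSpace
open CategoryTheory.Abelian

set_option backward.isDefEq.respectTransparency.types false

noncomputable section

namespace Groth.Agent.Units47

section LES

variable {X : Scheme.{u}} {S : ShortComplex (Sheaf (Opens.grothendieckTopology X) AddCommGrpCat.{u})}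
  (hS : S.ShortExact)

include hS in
theorem surjective_g (n : ℕ) (h : Subsingleton (Sheaf.H S.X₁ (n + 1))) :
    Function.Surjective (Sheaf.H.map S.g n) := fun z =>
  (Crv77.gexact₃.{u} (Crv77.srcObj X) hS n z).1 (h.elim _ _)

include hS in
theorem exact_fg (n : ℕ) : Function.Exact (Sheaf.H.map S.f n) (Sheaf.H.map S.g n) :=
  Crv77.gexact₂.{u} (Crv77.srcObj X) hS n

include hS in
theorem injective_f_succ (n : ℕ) (h : Function.Surjective (Sheaf.H.map S.g n)) :
    Function.Injective (Sheaf.H.map S.f (n + 1)) := by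
  rw [injective_iff_map_eq_zero]
  intro x hx
  obtain ⟨z, rfl⟩ := (Crv77.gexact₁.{u} (Crv77.srcObj X) hS n x).1 hx
  obtain ⟨y, rfl⟩ := h z
  exact (Crv77.gexact₃.{u} (Crv77.srcObj X) hS n _).2 ⟨y, rfl⟩

include hS in
theorem injective_f_zero : Function.Injective (Sheaf.H.map S.f 0) :=
  Crv77.ginj.{u} (Crv77.srcObj X) hS

end LES

/-- Transport of vanishing to the pushforward. -/
theorem nonempty_H_pushO {X₀ X' : Scheme.{u}} (j : X₀ ⟶ X') [IsAffineHom j] (n : ℕ) :
    Nonempty (Sheaf.H (pushO j) n ≃+ Coh.HH X₀ (Coh.structureModule X₀) n) :=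
  ⟨(Coh69.nonempty_hh_push j (Coh.structureModule X₀) n).some.symm⟩

/-- Surjectivity on the cohomology of units. -/
def SurjH {Y X' : Scheme.{u}} (i : Y ⟶ X') (q : ℕ) : Prop :=
  Function.Surjective (Sheaf.H.map (UnitsSh.comap i) q)

/-- Vanishing of the cohomology of the kernel. -/
def VanK {Y X' : Scheme.{u}} (i : Y ⟶ X') (q : ℕ) : Prop :=
  Subsingleton (Sheaf.H (kernel (UnitsSh.comap i)) q)

theorem isIso_comap {Y X' : Scheme.{u}} (i : Y ⟶ X') [IsIso i] : IsIso (UnitsSh.comap i) := by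
  have : ∀ U, IsIso (i.c.app U) := fun U => inferInstanceAs (IsIso (i.app U.unop))
  have : IsIso i.c := NatIso.isIso_of_isIso_app _
  have : IsIso (Functor.whiskerRight i.c UnitsSh.unitsFunctor) := inferInstance
  have : IsIso ((sheafToPresheaf _ _).map (UnitsSh.comap i)) := this
  exact isIso_of_fully_faithful (sheafToPresheaf _ _) _

theorem surjH_of_isIso {Y X' : Scheme.{u}} (i : Y ⟶ X') [IsIso i] (q : ℕ) : SurjH i q := fun z => by
  have := isIso_comap i
  exact ⟨Sheaf.H.map (inv (UnitsSh.comap i)) q z, by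
    rw [← Sheaf.H.map_comp_apply, IsIso.inv_hom_id, Sheaf.H.map_id_apply]⟩

theorem vanK_of_isIso {Y X' : Scheme.{u}} (i : Y ⟶ X') [IsIso i] (q : ℕ) : VanK i q := by
  have := isIso_comap i
  have h0 : 𝟙 (kernel (UnitsSh.comap i)) = 0 := (IsZero.iff_id_eq_zero _).1 (isZero_kernel_of_mono _)
  refine ⟨fun x y => ?_⟩
  have key : ∀ z : Sheaf.H (kernel (UnitsSh.comap i)) q, z = 0 := fun z => by
    rw [← Sheaf.H.map_id_apply (x := z), h0]
    change Ext.comp z (Ext.mk₀ 0) (add_zero q) = 0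
    rw [Ext.mk₀_zero, Ext.comp_zero]
  rw [key x, key y]

variable {A : Type u} [CommRing A] {X' : Scheme.{u}} (g : X' ⟶ Spec (CommRingCat.of A)) [Flat g]
  {R S K : Type u} [CommRing R] [CommRing S] [CommRing K]
  {φ : A →+* R} (χ : R →+* S) {ψ : A →+* S} {ρ : A →+* K} (t : A)

theorem surjH_step (hφ : Function.Surjective φ) (hc : χ.comp φ = ψ) (hψ : Function.Surjective ψ)
    (hρ : Function.Surjective ρ) (hker : RingHom.ker ψ = RingHom.ker φ ⊔ Ideal.span {t})
    (hann : ∀ a, a ∈ RingHom.ker ρ ↔ a * t ∈ RingHom.ker φ) (ht : t * t ∈ RingHom.ker φ)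
    (hnil : RingHom.ker ψ ≤ nilradical A) (q : ℕ) (h1 : SurjH (iSub g φ) q)
    (hvan : Subsingleton (Coh.HH (pullback g (Spec.map (CommRingCat.ofHom ρ))) (Coh.structureModule _) (q + 1))) :
    SurjH (iSub g ψ) q := by
  have := isClosedImmersion_spec hρ
  obtain ⟨a, w, hex⟩ := exists_step g hφ χ hc hψ ρ hρ t hker hann ht hnil
  have h2 : SurjH (hSub g φ χ hc ≫ iSub g φ) q := fun z => by
    obtain ⟨y, hy⟩ := surjective_g hex q ((nonempty_H_pushO (iSub g ρ) (q + 1)).some.toEquiv.subsingleton) z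
    obtain ⟨x, rfl⟩ := h1 y
    exact ⟨x, by rw [comap_comp, Sheaf.H.map_comp_apply]; exact hy⟩
  rwa [hSub_iSub] at h2

theorem vanK_step (hφ : Function.Surjective φ) (hc : χ.comp φ = ψ) (hψ : Function.Surjective ψ)
    (hρ : Function.Surjective ρ) (hker : RingHom.ker ψ = RingHom.ker φ ⊔ Ideal.span {t})
    (hann : ∀ a, a ∈ RingHom.ker ρ ↔ a * t ∈ RingHom.ker φ) (ht : t * t ∈ RingHom.ker φ)
    (hnil : RingHom.ker ψ ≤ nilradical A) (q : ℕ) (h1 : VanK (iSub g φ) q)
    (hvan : Subsingleton (Coh.HH (pullback g (Spec.map (CommRingCat.ofHom ρ))) (Coh.structureModule _) q)) :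
    VanK (iSub g ψ) q := by
  have := isClosedImmersion_spec hρ
  have := isClosedImmersion_spec hφ
  obtain ⟨a, w, hex⟩ := exists_step g hφ χ hc hψ ρ hρ t hker hann ht hnil
  let c₁ := UnitsSh.comap (iSub g φ)
  let c := c₁₂ (iSub g φ) (hSub g φ χ hc)
  have hc1 : Epi c₁ := epi_comap (iSub g φ) fun U b hb => mem_nilradical.1 <| by
    have h0 : RingHom.ker φ ≤ nilradical A := le_trans (hker ▸ le_sup_left) hnil
    exact (Ideal.map_le_iff_le_comap (K := nilradical Γ(X', U.1))).2
      (fun x hx => mem_nilradical.2 ((mem_nilradical.1 (h0 hx)).map _)) ((app_iSub_eq_zero_iff g hφ U b).1 hb)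
  have h2 : VanK (hSub g φ χ hc ≫ iSub g φ) q := by
    change Subsingleton (Sheaf.H (kernel (c₁ ≫ c)) q)
    have hw : kernel.ι c₁ ≫ (c₁ ≫ c) = 0 := by rw [← Category.assoc, kernel.condition, zero_comp]
    let f : kernel c₁ ⟶ kernel (c₁ ≫ c) := kernel.lift _ (kernel.ι c₁) hw
    have := hex.mono_f
    let p : kernel (c₁ ≫ c) ⟶ pushO (iSub g ρ) :=
      hex.exact.lift (kernel.ι _ ≫ c₁) (by rw [Category.assoc]; exact kernel.condition _)
    have hp : p ≫ a = kernel.ι (c₁ ≫ c) ≫ c₁ := hex.exact.lift_f _ _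
    have hfp : f ≫ p = 0 := by
      rw [← cancel_mono a, Category.assoc, hp, kernel.lift_ι_assoc, kernel.condition, zero_comp]
    have : Mono f := mono_of_mono_fac (kernel.lift_ι _ _ hw)
    have : Epi p := by
      rw [epi_iff_surjective_up_to_refinements]
      intro T x
      obtain ⟨T', π, hπ, y, hy⟩ := surjective_up_to_refinements_of_epi c₁ (x ≫ a)
      refine ⟨T', π, hπ, kernel.lift _ y ?_, ?_⟩
      · rw [← Category.assoc, ← hy, Category.assoc, Category.assoc, w, comp_zero, comp_zero]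
      · rw [← cancel_mono a, Category.assoc, Category.assoc, hp, kernel.lift_ι_assoc, hy]
    have hS : (ShortComplex.mk f p hfp).ShortExact := by
      refine { exact := ?_, mono_f := ‹_›, epi_g := ‹_› }
      rw [ShortComplex.exact_iff_exact_up_to_refinements]
      intro T x hx
      have hx' : (x ≫ kernel.ι (c₁ ≫ c)) ≫ c₁ = 0 := by
        rw [Category.assoc, ← hp, ← Category.assoc, hx, zero_comp]
      refine ⟨T, 𝟙 _, inferInstance, kernel.lift _ _ hx', ?_⟩
      rw [Category.id_comp, ← cancel_mono (kernel.ι (c₁ ≫ c)), Category.assoc, kernel.lift_ι, kernel.lift_ι]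
    refine ⟨fun x y => ?_⟩
    have key : ∀ z : Sheaf.H (kernel (c₁ ≫ c)) q, z = 0 := fun z => by
      have hq := (nonempty_H_pushO (iSub g ρ) q).some.toEquiv.subsingleton
      obtain ⟨u, rfl⟩ := (exact_fg hS q z).1 (hq.elim _ _)
      have hu : u = 0 := h1.elim u 0
      subst hu
      exact map_zero _
    exact (key x).trans (key y).symm
  rwa [hSub_iSub] at h2

section Artinian

variable [IsArtinianRing A] [IsLocalRing A]

omit [Flat g] [IsArtinianRing A] [IsLocalRing A] in
theorem isIso_iSub (hφ : Function.Bijective φ) : IsIso (iSub g φ) := by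
  have : IsIso (CommRingCat.ofHom φ) := (ConcreteCategory.isIso_iff_bijective _).2 hφ
  infer_instance

omit [Flat g] in
/-- Induction along small steps. -/
theorem induction_small (P : ∀ {Y : Scheme.{u}}, (Y ⟶ X') → Prop)
    (h0 : ∀ {Y : Scheme.{u}} (i : Y ⟶ X') [IsIso i], P i)
    (hstep : ∀ {R S : Type u} [CommRing R] [CommRing S] (φ : A →+* R) (χ : R →+* S) (ψ : A →+* S) (t : A),
      Function.Surjective φ → χ.comp φ = ψ → Function.Surjective ψ →
      RingHom.ker ψ = RingHom.ker φ ⊔ Ideal.span {t} →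
      (∀ a, a ∈ RingHom.ker (IsLocalRing.residue A) ↔ a * t ∈ RingHom.ker φ) → t * t ∈ RingHom.ker φ →
      RingHom.ker ψ ≤ nilradical A → P (iSub g φ) → P (iSub g ψ))
    (J : Ideal A) : ∀ {S : Type u} [CommRing S] (ψ : A →+* S), Function.Surjective ψ → RingHom.ker ψ = J →
      J ≤ IsLocalRing.maximalIdeal A → P (iSub g ψ) := by
  induction J using WellFoundedLT.induction with
  | _ J ih =>
    intro S _ ψ hψ hk hJ
    by_cases hne : J = ⊥
    · have := isIso_iSub g (φ := ψ) ⟨(RingHom.injective_iff_ker_eq_bot ψ).2 (hk.trans hne), hψ⟩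
      exact h0 _
    · obtain ⟨I, t, hI, hJt, hann⟩ := exists_small_ideal (J := J) hne
      have hnil : J ≤ nilradical A := fun x hx => by
        obtain ⟨n, hn⟩ := IsArtinianRing.isNilpotent_jacobson_bot (R := A)
        rw [IsLocalRing.jacobson_eq_maximalIdeal ⊥ bot_ne_top] at hn
        have h1 := Ideal.pow_mem_pow (hJ hx) n
        rw [hn] at h1
        exact mem_nilradical.2 ⟨n, Ideal.mem_bot.1 h1⟩
      refine hstep (Ideal.Quotient.mk I) (Ideal.Quotient.lift I ψ fun x hx => ?_) ψ t Ideal.Quotient.mk_surjective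
        (RingHom.ext fun x => Ideal.Quotient.lift_mk I ψ (fun z hz => RingHom.mem_ker.1 (hk.symm ▸ hI.le hz))) hψ ?_ (fun a => ?_) ?_ (hk ▸ hnil)
        (ih I hI _ Ideal.Quotient.mk_surjective Ideal.mk_ker (hI.le.trans hJ))
      · exact RingHom.mem_ker.1 (hk.symm ▸ hI.le hx)
      · rw [hk, Ideal.mk_ker, hJt]
      · rw [IsLocalRing.ker_residue, Ideal.mk_ker]; exact hann a
      · rw [Ideal.mk_ker, ← hann]
        exact hJ (hJt ▸ Ideal.mem_sup_right (Ideal.mem_span_singleton_self t))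

end Artinian

end Groth.Agent.Units47
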